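import Mathlib

/-!
# Zeros of quadratic forms over finite fields

A quadratic form on a finite-dimensional space over a finite field, without singular isotropic vectors, has
`q^(m-1) + ε (q^(m/2) - q^(m/2-1))` zeros (`m` the dimension).
-/

set_option autoImplicit false

universe u v

open QuadraticMap

namespace Groth.Quadric

variable {k : Type u} [Field k] {V : Type v} [AddCommGroup V] [Module k V]

/-- No non-zero isotropic vector is orthogonal to everything. -/
def NoSing (Q : QuadraticForm k V) : Prop := ∀ x : V, x ≠ 0 → Q x = 0 → ∃ y, polar Q x y ≠ 0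

/-- In dimension at least three there is an isotropic vector. -/
theorem exists_isotropic [Finite k] [FiniteDimensional k V] (Q : QuadraticForm k V)
    (h : 3 ≤ Module.finrank k V) : ∃ x : V, x ≠ 0 ∧ Q x = 0 := by
  classical
  have : Fintype k := Fintype.ofFinite k
  let b := Module.finBasis k V
  let : LinearOrder (Fin (Module.finrank k V)) := inferInstance
  let B := Q.toBilin b
  have hB : ∀ x, B x x = Q x := fun x => by
    conv_rhs => rw [← Q.toQuadraticMap_toBilin b]
    rfl
  let f : MvPolynomial (Fin (Module.finrank k V)) k :=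
    ∑ i, ∑ j, MvPolynomial.C (B (b i) (b j)) * MvPolynomial.X i * MvPolynomial.X j
  have hev : ∀ c : Fin (Module.finrank k V) → k, MvPolynomial.eval c f = Q (∑ i, c i • b i) := by
    intro c
    rw [← hB]
    simp only [f, map_sum, map_mul, MvPolynomial.eval_C, MvPolynomial.eval_X, map_smul, LinearMap.sum_apply,
      LinearMap.smul_apply, smul_eq_mul, Finset.mul_sum]
    conv_rhs => rw [Finset.sum_comm]
    refine Finset.sum_congr rfl fun i _ => Finset.sum_congr rfl fun j _ => ?_
    ring
  have hdeg : f.totalDegree < Fintype.card (Fin (Module.finrank k V)) := by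
    rw [Fintype.card_fin]
    refine lt_of_le_of_lt ?_ h
    refine (MvPolynomial.totalDegree_finsetSum _ _).trans (Finset.sup_le fun i _ => ?_)
    refine (MvPolynomial.totalDegree_finsetSum _ _).trans (Finset.sup_le fun j _ => ?_)
    refine (MvPolynomial.totalDegree_mul _ _).trans ?_
    refine (Nat.add_le_add (MvPolynomial.totalDegree_mul _ _) le_rfl).trans ?_
    simp [MvPolynomial.totalDegree_X]
  obtain ⟨p, _⟩ := CharP.exists k
  have : Fact p.Prime := ⟨CharP.char_is_prime k p⟩
  have h2 := char_dvd_card_solutions p hdeg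
  have h0 : MvPolynomial.eval (0 : Fin (Module.finrank k V) → k) f = 0 := by rw [hev]; simp
  by_contra hne
  push Not at hne
  have h1 : Fintype.card {x : Fin (Module.finrank k V) → k // MvPolynomial.eval x f = 0} = 1 :=
    Fintype.card_eq_one_iff.2 ⟨⟨0, h0⟩, fun ⟨c, hc⟩ => Subtype.ext (by
      by_contra hc0
      refine hne _ (fun hz => hc0 ?_) ((hev c).symm.trans hc)
      funext i
      have := congrArg (fun x => b.repr x i) hz
      simpa [Finsupp.single_apply, Finset.sum_apply'] using this)⟩
  rw [h1] at h2
  exact (Fact.out : p.Prime).one_lt.ne' (Nat.dvd_one.1 h2)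

/-- The hyperbolic decomposition attached to an isotropic vector. -/
theorem exists_hyperbolic [FiniteDimensional k V] (Q : QuadraticForm k V) (hQ : NoSing Q) {x : V} (hx : x ≠ 0)
    (hQx : Q x = 0) :
    ∃ (V' : Submodule k V) (e : (k × k × V') ≃ₗ[k] V), (∀ p : k × k × V', Q (e p) = p.1 * p.2.1 + Q p.2.2) ∧
      e (1, 0, 0) = x ∧ NoSing (Q.comp V'.subtype) ∧ Module.finrank k V' + 2 = Module.finrank k V := by
  obtain ⟨w₀, hw₀⟩ := hQ x hx hQx
  obtain ⟨w₁, hw₁⟩ : ∃ w₁, polar Q x w₁ = 1 :=
    ⟨(polar Q x w₀)⁻¹ • w₀, by rw [polar_smul_right, smul_eq_mul, inv_mul_cancel₀ hw₀]⟩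
  have hxx : polar Q x x = 0 := by rw [polar_self, hQx, smul_zero]
  have hsub : ∀ (a b : k) (z : V), Q (a • x + b • z) = a * b * polar Q x z + b * b * Q z := by
    intro a b z
    rw [QuadraticMap.map_add (f := ⇑Q), Q.map_smul, Q.map_smul, hQx, polar_smul_left, polar_smul_right]
    simp only [smul_eq_mul]
    ring
  let w : V := w₁ - Q w₁ • x
  have hxw : polar Q x w = 1 := by simp [w, sub_eq_add_neg, polar_add_right, polar_smul_right, hw₁, hxx, ← neg_smul]
  have hQw : Q w = 0 := by
    have := hsub (-Q w₁) 1 w₁
    rw [one_smul, hw₁, neg_smul, neg_add_eq_sub] at this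
    rw [this]; ring
  have hwx : polar Q w x = 1 := by rw [polar_comm, hxw]
  have hww : polar Q w w = 0 := by rw [polar_self, hQw, smul_zero]
  let V' : Submodule k V := LinearMap.ker (Q.polarBilin x) ⊓ LinearMap.ker (Q.polarBilin w)
  have hV' : ∀ z : V, z ∈ V' ↔ polar Q x z = 0 ∧ polar Q w z = 0 := fun z => by
    simp [V', LinearMap.mem_ker]
  let i : (k × k × V') →ₗ[k] V :=
    (LinearMap.toSpanSingleton k V x).coprod ((LinearMap.toSpanSingleton k V w).coprod V'.subtype)
  have hi : ∀ p : k × k × V', i p = p.1 • x + (p.2.1 • w + (p.2.2 : V)) := fun p => by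
    simp [i]
  have hx' : ∀ p : k × k × V', polar Q x (i p) = p.2.1 := fun p => by
    rw [hi, polar_add_right, polar_add_right, polar_smul_right, polar_smul_right, hxx, hxw,
      ((hV' _).1 p.2.2.2).1]
    simp
  have hw' : ∀ p : k × k × V', polar Q w (i p) = p.1 := fun p => by
    rw [hi, polar_add_right, polar_add_right, polar_smul_right, polar_smul_right, hwx, hww,
      ((hV' _).1 p.2.2.2).2]
    simp
  have hinj : Function.Injective i := by
    intro p p' h
    have h1 : p.1 = p'.1 := by rw [← hw', h, hw']
    have h2 : p.2.1 = p'.2.1 := by rw [← hx', h, hx']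
    refine Prod.ext h1 (Prod.ext h2 (Subtype.ext ?_))
    have := h
    rw [hi, hi, h1, h2] at this
    simpa using this
  have hsurj : Function.Surjective i := by
    intro u
    have hm : u - polar Q w u • x - polar Q x u • w ∈ V' := by
      rw [hV']
      simp [sub_eq_add_neg, ← neg_smul, polar_add_right, polar_smul_right, hxx, hxw, hwx, hww]
    exact ⟨(polar Q w u, polar Q x u, ⟨_, hm⟩), by rw [hi]; simp⟩
  let e := LinearEquiv.ofBijective i ⟨hinj, hsurj⟩
  refine ⟨V', e, fun p => ?_, ?_, ?_, ?_⟩
  · show Q (i p) = _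
    rw [hi, QuadraticMap.map_add (f := ⇑Q), QuadraticMap.map_add (f := ⇑Q), Q.map_smul, Q.map_smul, hQx, hQw, polar_add_right, polar_smul_left,
      polar_smul_left, polar_smul_left, polar_smul_right, hxw, ((hV' _).1 p.2.2.2).1, ((hV' _).1 p.2.2.2).2]
    simp
    ring
  · show i (1, 0, 0) = x
    simp [hi]
  · intro z hz hQz
    have hz' : (z : V) ≠ 0 := fun h => hz (Subtype.ext h)
    obtain ⟨u, hu⟩ := hQ z hz' hQz
    obtain ⟨p, rfl⟩ := hsurj u
    refine ⟨p.2.2, ?_⟩
    have h1 : polar Q (z : V) x = 0 := by rw [polar_comm, ((hV' _).1 z.2).1]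
    have h2 : polar Q (z : V) w = 0 := by rw [polar_comm, ((hV' _).1 z.2).2]
    rw [hi, polar_add_right, polar_add_right, polar_smul_right, polar_smul_right, h1, h2] at hu
    simpa [polar] using hu
  · rw [← e.finrank_eq, Module.finrank_prod, Module.finrank_prod, Module.finrank_self]
    omega

/-- The number of zeros of a form split off by a hyperbolic plane. -/
theorem natCard_zeros [Finite k] {V' : Type v} [AddCommGroup V'] [Module k V'] [Finite V'] (Q' : V' → k) :
    Nat.card {p : k × k × V' // p.1 * p.2.1 + Q' p.2.2 = 0} =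
      Nat.card k * Nat.card {z : V' // Q' z = 0} + (Nat.card k - 1) * Nat.card V' := by
  classical
  have e : {p : k × k × V' // p.1 * p.2.1 + Q' p.2.2 = 0} ≃
      (k × {z : V' // Q' z = 0}) ⊕ ({b : k // b ≠ 0} × V') :=
    { toFun := fun p =>
        if h : p.1.2.1 = 0 then Sum.inl (p.1.1, ⟨p.1.2.2, by simpa [h] using p.2⟩)
        else Sum.inr (⟨p.1.2.1, h⟩, p.1.2.2)
      invFun := Sum.elim (fun s => ⟨(s.1, 0, s.2.1), by simp [s.2.2]⟩)
        (fun s => ⟨(-Q' s.2 * (s.1.1)⁻¹, s.1.1, s.2), by
          show -Q' s.2 * (s.1.1)⁻¹ * s.1.1 + Q' s.2 = 0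
          rw [inv_mul_cancel_right₀ s.1.2, neg_add_cancel]⟩)
      left_inv := by
        rintro ⟨⟨a, b, z⟩, h⟩
        rcases eq_or_ne b 0 with rfl | hb
        · simp
        · simp only [dif_neg hb, Sum.elim_inr]
          have ha : -Q' z * b⁻¹ = a := by
            rw [mul_inv_eq_iff_eq_mul₀ hb]
            linear_combination -h
          simp [ha]
      right_inv := by
        rintro (⟨a, z⟩ | ⟨⟨b, hb⟩, z⟩) <;> simp [*] }
  rw [Nat.card_congr e, Nat.card_sum, Nat.card_prod, Nat.card_prod]
  congr 2
  have : Fintype k := Fintype.ofFinite k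
  rw [Nat.card_eq_fintype_card, Nat.card_eq_fintype_card, Fintype.card_subtype_compl, Fintype.card_subtype_eq]

/-- The number of zeros of a quadratic form without singular isotropic vectors, times `q`. -/
theorem main [Finite k] : ∀ (m : ℕ) {V : Type v} [AddCommGroup V] [Module k V] [FiniteDimensional k V]
    (Q : QuadraticForm k V), NoSing Q → Module.finrank k V = m →
    (Odd m → (Nat.card k : ℤ) * Nat.card {x : V // Q x = 0} = (Nat.card k : ℤ) ^ m) ∧
    (∀ s, m = 2 * s → ∃ ε : ℤ, (ε = 1 ∨ ε = -1) ∧
      (Nat.card k : ℤ) * Nat.card {x : V // Q x = 0} =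
        (Nat.card k : ℤ) ^ m + ε * ((Nat.card k : ℤ) ^ (s + 1) - (Nat.card k : ℤ) ^ s) ∧
      (ε = 1 ↔ ∃ W : Submodule k V, Module.finrank k W = s ∧ ∀ w ∈ W, Q w = 0)) := by
  intro m
  induction m using Nat.strong_induction_on with
  | _ m ih =>
  intro V _ _ _ Q hQ hm
  by_cases hiso : ∃ x : V, x ≠ 0 ∧ Q x = 0
  swap
  · have hle : m ≤ 2 := by
      by_contra hlt
      exact hiso (exists_isotropic Q (by omega))
    push Not at hiso
    have hN : Nat.card {x : V // Q x = 0} = 1 := Nat.card_eq_one_iff_unique.2
      ⟨⟨fun a b => Subtype.ext (by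
        rw [show (a : V) = 0 from by_contra fun h => hiso _ h a.2, show (b : V) = 0 from by_contra fun h => hiso _ h b.2])⟩,
        ⟨⟨0, map_zero Q⟩⟩⟩
    rw [hN]
    refine ⟨fun ho => ?_, fun s hs => ?_⟩
    · obtain ⟨r, rfl⟩ := ho
      obtain rfl : r = 0 := by omega
      simp
    · obtain rfl | rfl : s = 0 ∨ s = 1 := by omega
      · subst hs
        exact ⟨1, Or.inl rfl, by simp, iff_of_true rfl ⟨⊥, finrank_bot k V, fun w hw => by
          rw [(Submodule.mem_bot k).1 hw, map_zero]⟩⟩
      · subst hs
        refine ⟨-1, Or.inr rfl, by ring, iff_of_false (by norm_num) ?_⟩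
        rintro ⟨W, hW, hW0⟩
        obtain ⟨w, hw, hw0⟩ := Submodule.exists_mem_ne_zero_of_ne_bot (p := W) (fun h => by rw [h, finrank_bot] at hW; omega)
        exact hiso w hw0 (hW0 w hw)
  · obtain ⟨x, hx, hQx⟩ := hiso
    obtain ⟨V', e, he, hex, hns, hfr⟩ := exists_hyperbolic Q hQ hx hQx
    have : Finite V := Module.finite_of_finite k
    have : Fintype k := Fintype.ofFinite k
    obtain ⟨hodd, heven⟩ := ih (m - 2) (by omega) (Q.comp V'.subtype) hns (by omega)
    have hN : Nat.card {y : V // Q y = 0} =
        Nat.card k * Nat.card {z : V' // Q z = 0} + (Nat.card k - 1) * Nat.card k ^ (m - 2) := by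
      have hc : Nat.card V' = Nat.card k ^ (m - 2) := by
        rw [Module.natCard_eq_pow_finrank (K := k), show Module.finrank k V' = m - 2 by omega]
      rw [← hc, ← natCard_zeros (fun z : V' => Q z)]
      exact (Nat.card_congr (e.toEquiv.subtypeEquiv fun p => by
        rw [← he p]; rfl)).symm
    have hq : 1 ≤ Nat.card k := Nat.card_pos
    obtain ⟨t, rfl⟩ : ∃ t, m = t + 2 := ⟨m - 2, by omega⟩
    simp only [Nat.add_sub_cancel] at hN hodd heven
    rw [hN]
    push_cast [Nat.cast_sub hq]
    simp only [QuadraticMap.comp_apply, Submodule.subtype_apply] at hodd heven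
    refine ⟨fun ho => ?_, fun s hs => ?_⟩
    · have hot : Odd t := by rwa [Nat.odd_add, iff_true_right (by decide)] at ho
      linear_combination (Nat.card k : ℤ) * hodd hot
    · obtain ⟨s', rfl⟩ : ∃ s', s = s' + 1 := ⟨s - 1, by omega⟩
      obtain ⟨ε, hε, hcnt, hiff⟩ := heven s' (by omega)
      refine ⟨ε, hε, by linear_combination (Nat.card k : ℤ) * hcnt, hiff.trans ⟨?_, ?_⟩⟩
      · rintro ⟨W', hW', hW'0⟩
        let L : (k × W') →ₗ[k] V := e.toLinearMap.comp
          ((LinearMap.fst k k W').prod ((0 : k × W' →ₗ[k] k).prod (W'.subtype.comp (LinearMap.snd k k W'))))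
        have hL : Function.Injective L := fun p p' h => by
          have := e.injective h
          simp only [LinearMap.prod_apply, Prod.mk.injEq, LinearMap.fst_apply, LinearMap.coe_comp,
            Function.comp_apply, LinearMap.snd_apply, Submodule.subtype_apply, Function.prod_apply] at this
          exact Prod.ext this.1 (Subtype.ext this.2.2)
        refine ⟨LinearMap.range L, ?_, ?_⟩
        · rw [LinearMap.finrank_range_of_inj hL, Module.finrank_prod, Module.finrank_self, hW']
          omega
        · rintro _ ⟨p, rfl⟩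
          show Q (e _) = 0
          rw [he]
          simpa using hW'0 _ p.2.2
      · rintro ⟨W, hW, hW0⟩
        let b : V →ₗ[k] k := (LinearMap.fst k k V').comp ((LinearMap.snd k k (k × V')).comp e.symm.toLinearMap)
        let π : V →ₗ[k] V' := (LinearMap.snd k k V').comp ((LinearMap.snd k k (k × V')).comp e.symm.toLinearMap)
        have hQπ : ∀ u : V, b u = 0 → Q u = Q (π u) := fun u hu => by
          conv_lhs => rw [← e.apply_symm_apply u]
          rw [he]
          have h0 : (e.symm u).2.1 = 0 := hu
          simp [h0, π]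
        have hkerπ : ∀ u : V, b u = 0 → π u = 0 → u ∈ Submodule.span k {x} := fun u hb hπ => by
          have h0 : e.symm u = ((e.symm u).1 • ((1, 0, 0) : k × k × V')) := by
            have h1 : (e.symm u).2.1 = 0 := hb
            have h2 : (e.symm u).2.2 = 0 := hπ
            ext <;> simp [h1, h2]
          refine Submodule.mem_span_singleton.2 ⟨(e.symm u).1, ?_⟩
          conv_rhs => rw [← e.apply_symm_apply u, h0, map_smul, hex]
        suffices hW₁ : ∃ W₁ : Submodule k V, W₁ ≤ W ∧ (∀ u ∈ W₁, b u = 0) ∧ s' ≤ Module.finrank k (W₁.map π) by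
          obtain ⟨W₁, hle, hb, hdim⟩ := hW₁
          obtain ⟨f, hf⟩ := exists_linearIndependent_of_le_finrank hdim
          have hf' : LinearIndependent k (fun i => (f i : V')) := hf.map' (W₁.map π).subtype (Submodule.ker_subtype _)
          refine ⟨Submodule.span k (Set.range fun i => (f i : V')), ?_, fun z hz => ?_⟩
          · rw [finrank_span_eq_card hf', Fintype.card_fin]
          · have hzm : z ∈ W₁.map π := Submodule.span_le.2 (by rintro _ ⟨i, rfl⟩; exact (f i).2) hz
            obtain ⟨u, hu, rfl⟩ := hzm
            rw [← hQπ u (hb u hu)]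
            exact hW0 u (hle hu)
        let bW : W →ₗ[k] k := b.comp W.subtype
        let W₁ : Submodule k V := (LinearMap.ker bW).map W.subtype
        have hW₁ : Module.finrank k W₁ = Module.finrank k (LinearMap.ker bW) :=
          (Submodule.equivMapOfInjective _ (Submodule.injective_subtype W) _).finrank_eq.symm
        have hrn := LinearMap.finrank_range_add_finrank_ker bW
        have hr1 : Module.finrank k (LinearMap.range bW) ≤ 1 :=
          (Submodule.finrank_le _).trans (Module.finrank_self k).le
        have hmem : ∀ u ∈ W₁, u ∈ W ∧ b u = 0 := by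
          rintro _ ⟨u, hu, rfl⟩
          exact ⟨u.2, hu⟩
        refine ⟨W₁, fun u hu => (hmem u hu).1, fun u hu => (hmem u hu).2, ?_⟩
        have hπr := LinearMap.finrank_range_add_finrank_ker (π.comp W₁.subtype)
        rw [LinearMap.range_comp, Submodule.range_subtype] at hπr
        by_cases hxW : x ∈ W
        · have hbx : LinearMap.range bW = ⊥ := by
            rw [LinearMap.range_eq_bot]
            ext u
            have h1 := hW0 ((u : V) + x) (W.add_mem u.2 hxW)
            rw [QuadraticMap.map_add (f := ⇑Q), hW0 _ u.2, hQx, zero_add, zero_add] at h1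
            have h2 : polar Q (u : V) x = b u := by
              have h3 : (u : V) + x = e (e.symm u + (1, 0, 0)) := by rw [map_add, e.apply_symm_apply, hex]
              have h4 : Q ((u : V) + x) = Q (u : V) + b u := by
                rw [h3, he]
                conv_rhs => rw [← e.apply_symm_apply (u : V), he]
                simp [b]
                ring
              simp [polar, h4, hQx]
            exact h2.symm.trans h1
          rw [hbx, finrank_bot] at hrn
          have hk : Module.finrank k (LinearMap.ker (π.comp W₁.subtype)) ≤ 1 := by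
            rw [← finrank_span_singleton (K := k) hx,
              (Submodule.equivMapOfInjective W₁.subtype (Submodule.injective_subtype W₁) _).finrank_eq]
            refine Submodule.finrank_mono ?_
            rintro _ ⟨u, hu, rfl⟩
            exact hkerπ _ (hmem _ u.2).2 hu
          omega
        · have hk : LinearMap.ker (π.comp W₁.subtype) = ⊥ := by
            rw [LinearMap.ker_eq_bot']
            intro u hu
            obtain ⟨c, hc⟩ := Submodule.mem_span_singleton.1 (hkerπ _ (hmem _ u.2).2 hu)
            rcases eq_or_ne c 0 with rfl | hc0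
            · exact Subtype.ext (by simpa using hc.symm)
            · refine absurd ?_ hxW
              have hx' : x = c⁻¹ • (u : V) := by rw [← hc, smul_smul, inv_mul_cancel₀ hc0, one_smul]
              rw [hx']
              exact W.smul_mem _ (hmem _ u.2).1
          rw [hk, finrank_bot] at hπr
          omega

end Groth.Quadric
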