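import Groth.Prelude.Def_SgaExt
import Groth.Agent.PlaneCurve.SmoothChart
import Groth.Agent.CohTwo.CI.Regular

/-!
# Rational points of a hypersurface in the standard charts
-/

set_option autoImplicit false
set_option linter.style.haveILetI false
set_option backward.isDefEq.respectTransparency false

universe u

open CategoryTheory CategoryTheory.Limits AlgebraicGeometry Opposite TopologicalSpace
open HomogeneousLocalization
open Groth.PlaneCurve (affEq affCoord toAway ofAway ofAway_frac ofAway_toAway toAway_ofAway ofAway_scalar toAway_affEq)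

namespace Groth.Quadric

variable {k : Type u} [Field k] {n d : ℕ} (G : LefPen.Form n k d) (j : Fin (n + 1))

local notation "ℙg" => CohB1.polyGrading n k

/-- The coordinate ring of a hypersurface in a chart. -/
abbrev chartRing : Type u := MvPolynomial (Fin n) k ⧸ Ideal.span ({affEq j G} : Set (MvPolynomial (Fin n) k))

/-- From the ring of a chart of projective space. -/
noncomputable def chartMap : Away ℙg (MvPolynomial.X j) →+* chartRing G j :=
  (Ideal.Quotient.mk _).comp (ofAway j)

/-- The chart as a morphism to projective space. -/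
noncomputable def chartHom : Spec (CommRingCat.of (chartRing G j)) ⟶ CohB1.ProjSpace n k :=
  Spec.map (CommRingCat.ofHom (chartMap G j)) ≫ Proj.awayι ℙg (MvPolynomial.X j) (LefPen.X_mem n k j) one_pos

theorem chartHom_toSpec :
    chartHom G j ≫ CohB1.ProjSpace.toSpec n k = Spec.map (CommRingCat.ofHom (algebraMap k (chartRing G j))) := by
  rw [chartHom, CohB1.ProjSpace.toSpec, Category.assoc]
  rw [show Proj.awayι ℙg (MvPolynomial.X j) (LefPen.X_mem n k j) one_pos ≫ Proj.toSpecZero ℙg ≫
      Spec.map (CommRingCat.ofHom (algebraMap k (ℙg 0))) =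
      Spec.map (CommRingCat.ofHom (fromZeroRingHom ℙg _)) ≫ Spec.map (CommRingCat.ofHom (algebraMap k (ℙg 0))) from
    (Category.assoc _ _ _).symm.trans (congrArg (· ≫ _) (Proj.awayι_toSpecZero ℙg _ _ _))]
  rw [← Spec.map_comp, ← Spec.map_comp]
  refine congrArg Spec.map (CommRingCat.hom_ext (RingHom.ext fun c => ?_))
  show Ideal.Quotient.mk _ (ofAway j (Misc3Bertini.scalar k n j c)) = _
  rw [ofAway_scalar]
  rfl

theorem fromSpec_eq :
    (CohTwo.CI.chartAff (k := k) j).2.fromSpec =
      Spec.map (Proj.awayToSection ℙg (MvPolynomial.X j)) ≫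
        Proj.awayι ℙg (MvPolynomial.X j) (LefPen.X_mem n k j) one_pos := by
  rw [← cancel_epi (CohTwo.CI.chartAff (k := k) j).2.isoSpec.hom]
  show _ = (LefPen.chart n k j).toSpecΓ ≫ _
  rw [IsAffineOpen.isoSpec_hom_fromSpec, ← Category.assoc,
    show (LefPen.chart n k j).toSpecΓ ≫ Spec.map (Proj.awayToSection ℙg (MvPolynomial.X j)) =
      Proj.basicOpenToSpec ℙg (MvPolynomial.X j) from rfl,
    ← Proj.basicOpenIsoSpec_hom ℙg (MvPolynomial.X j) (LefPen.X_mem n k j) one_pos, Proj.awayι,
    Iso.hom_inv_id_assoc]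

/-- The chart of the hypersurface. -/
theorem exists_chartIncl :
    ∃ (q : Spec (CommRingCat.of (chartRing G j)) ⟶ (LefPen.hypIdeal G).subscheme) (_ : IsOpenImmersion q),
      q ≫ (LefPen.hypIdeal G).subschemeι = chartHom G j ∧
      q.opensRange = (LefPen.hypIdeal G).subschemeι ⁻¹ᵁ LefPen.chart n k j := by
  let U := CohTwo.CI.chartAff (k := k) (n := n) j
  let φ : Away ℙg (MvPolynomial.X j) →+* Γ(CohB1.ProjSpace n k, U.1) :=
    (Proj.awayToSection ℙg (MvPolynomial.X j)).hom
  have hφ : Function.Bijective φ := ConcreteCategory.bijective_of_isIso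
    (Proj.basicOpenIsoAway ℙg (MvPolynomial.X j) (LefPen.X_mem n k j) one_pos).hom
  let π : MvPolynomial (Fin n) k →+* Γ(CohB1.ProjSpace n k, U.1) ⧸ (LefPen.hypIdeal G).ideal U :=
    (Ideal.Quotient.mk _).comp (φ.comp (toAway j))
  have hπs : Function.Surjective π := by
    intro y
    obtain ⟨x, rfl⟩ := Ideal.Quotient.mk_surjective y
    obtain ⟨z, rfl⟩ := hφ.2 x
    exact ⟨ofAway j z, by rw [RingHom.comp_apply, RingHom.comp_apply, toAway_ofAway]⟩
  have hd : LefPen.dehom G j = φ (toAway j (affEq j G)) := by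
    rw [toAway_affEq]
    rfl
  have hker : RingHom.ker π = Ideal.span {affEq j G} := by
    ext p
    rw [RingHom.mem_ker, RingHom.comp_apply, Ideal.Quotient.eq_zero_iff_mem, RingHom.comp_apply,
      CohTwo.CI.hypIdeal_ideal_chart G j, Ideal.mem_span_singleton, Ideal.mem_span_singleton, hd]
    constructor
    · rintro ⟨c, hc⟩
      obtain ⟨z, rfl⟩ := hφ.2 c
      rw [← map_mul] at hc
      refine ⟨ofAway j z, ?_⟩
      have := congrArg (ofAway j) (hφ.1 hc)
      rwa [ofAway_toAway, map_mul, ofAway_toAway] at this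
    · rintro ⟨c, rfl⟩
      exact ⟨φ (toAway j c), by rw [map_mul, map_mul]⟩
  let E : (Γ(CohB1.ProjSpace n k, U.1) ⧸ (LefPen.hypIdeal G).ideal U) ≃+* chartRing G j :=
    ((Ideal.quotEquivOfEq hker.symm).trans (RingHom.quotientKerEquivOfSurjective hπs)).symm
  have hE : (E.toRingHom.comp (Ideal.Quotient.mk _)).comp φ = chartMap G j := by
    refine RingHom.ext fun z => ?_
    show E (Ideal.Quotient.mk _ (φ z)) = Ideal.Quotient.mk _ (ofAway j z)
    refine E.symm.injective ?_
    rw [E.symm_apply_apply]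
    show _ = π (ofAway j z)
    simp only [π, RingHom.comp_apply, toAway_ofAway]
  let c := (LefPen.hypIdeal G).subschemeCover.f U
  haveI : IsOpenImmersion c := inferInstanceAs (IsOpenImmersion ((LefPen.hypIdeal G).subschemeCover.f U))
  haveI : IsIso (Spec.map E.toCommRingCatIso.hom) := inferInstance
  refine ⟨Spec.map E.toCommRingCatIso.hom ≫ c, inferInstance, ?_, ?_⟩
  · have hc : c ≫ (LefPen.hypIdeal G).subschemeι =
        Spec.map (CommRingCat.ofHom (Ideal.Quotient.mk _)) ≫ U.2.fromSpec := by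
      rw [Scheme.IdealSheafData.subschemeCover_map_subschemeι, Scheme.IdealSheafData.glueDataObjι, Category.assoc,
        IsAffineOpen.isoSpec_inv_ι]
    rw [Category.assoc, hc, fromSpec_eq, chartHom, ← Spec.map_comp_assoc, ← Spec.map_comp_assoc, ← hE]
    rfl
  · rw [Scheme.Hom.opensRange_comp_of_isIso]
    exact (LefPen.hypIdeal G).opensRange_subschemeCover_map U

/-- The normalised coordinate vectors in a chart. -/
abbrev NormZero : Type u :=
  {c : Fin (n + 1) → k // c j = 1 ∧ (∀ l < j, c l = 0) ∧ MvPolynomial.eval c G.1 = 0}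

theorem aeval_affEq {R : Type u} [CommRing R] [Algebra k R] (v : Fin n → R) :
    MvPolynomial.aeval v (affEq j G) = MvPolynomial.aeval (Fin.insertNth j (1 : R) v) G.1 := by
  show (MvPolynomial.aeval v).toRingHom (MvPolynomial.eval₂ MvPolynomial.C (affCoord j) G.1) = _
  rw [MvPolynomial.eval₂_comp_left, MvPolynomial.aeval_def]
  congr 1
  · ext a; simp
  · funext l
    refine Fin.succAboveCases j ?_ (fun i => ?_) l <;> simp [affCoord]

/-- The point of the chart ring of a normalised zero. -/
noncomputable def evalPt (c : NormZero G j) : chartRing G j →ₐ[k] k :=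
  Ideal.Quotient.liftₐ _ (MvPolynomial.aeval (j.removeNth c.1)) (by
    intro a ha
    obtain ⟨b, rfl⟩ := Ideal.mem_span_singleton'.1 ha
    have hins : j.insertNth (1 : k) (j.removeNth c.1) = c.1 := by
      conv_rhs => rw [← Fin.insertNth_self_removeNth j c.1, c.2.1]
    rw [map_mul, aeval_affEq, hins, MvPolynomial.aeval_eq_eval c.1, c.2.2.2, mul_zero])

theorem evalPt_mk (c : NormZero G j) (p : MvPolynomial (Fin n) k) :
    evalPt G j c (Ideal.Quotient.mk _ p) = MvPolynomial.aeval (j.removeNth c.1) p := rfl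

theorem preimage_chart (l : Fin (n + 1)) (φ : chartRing G j →+* k) (s : Spec (CommRingCat.of k)) :
    (Spec.map (CommRingCat.ofHom φ) ≫ chartHom G j) s ∈ LefPen.chart n k l ↔
      φ (Ideal.Quotient.mk _ (affCoord j l)) ≠ 0 := by
  let e : Away ℙg (MvPolynomial.X j) := Away.isLocalizationElem (LefPen.X_mem n k j) (LefPen.X_mem n k l)
  have he : e = Misc3Bertini.frac k n j l := by
    refine HomogeneousLocalization.val_injective _ ?_
    simp [e, Away.isLocalizationElem, Misc3Bertini.frac, Away.val_mk]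
  rw [chartHom, ← Category.assoc, ← Spec.map_comp, ← CommRingCat.ofHom_comp, Scheme.Hom.comp_apply]
  show (Spec.map (CommRingCat.ofHom (φ.comp (chartMap G j))) s : Spec _) ∈
    Proj.awayι ℙg (MvPolynomial.X j) (LefPen.X_mem n k j) one_pos ⁻¹ᵁ LefPen.chart n k l ↔ _
  rw [show LefPen.chart n k l = Proj.basicOpen ℙg (MvPolynomial.X l) from rfl,
    Proj.awayι_preimage_basicOpen ℙg (LefPen.X_mem n k j) one_pos (LefPen.X_mem n k l) one_pos]
  show φ (Ideal.Quotient.mk _ (ofAway j e)) ∉ (s : PrimeSpectrum k).asIdeal ↔ _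
  have hs : (s : PrimeSpectrum k).asIdeal = ⊥ :=
    (Ideal.eq_bot_or_top _).resolve_right (s : PrimeSpectrum k).isPrime.ne_top
  rw [he, ofAway_frac]
  exact ⟨fun h h0 => h (hs ▸ (Ideal.mem_bot.2 h0)), fun h h0 => h (Ideal.mem_bot.1 (hs ▸ h0))⟩

/-- The rational points of a hypersurface correspond to the normalised zeros. -/
theorem natCard_points :
    SgaExt.pointCount ((LefPen.hypIdeal G).subschemeι ≫ CohB1.ProjSpace.toSpec n k) k =
      Nat.card (Σ j : Fin (n + 1), NormZero G j) := by
  classical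
  choose q hq hqι hqr using exists_chartIncl G
  let s₀ : Spec (CommRingCat.of k) := (⟨⊥, Ideal.isPrime_bot⟩ : PrimeSpectrum k)
  let Φ : (Σ j : Fin (n + 1), NormZero G j) → {g : Spec (CommRingCat.of k) ⟶ (LefPen.hypIdeal G).subscheme //
      g ≫ (LefPen.hypIdeal G).subschemeι ≫ CohB1.ProjSpace.toSpec n k =
        Spec.map (CommRingCat.ofHom (algebraMap k k))} := fun c =>
    ⟨Spec.map (CommRingCat.ofHom (evalPt G c.1 c.2).toRingHom) ≫ q c.1, by
      rw [Category.assoc, reassoc_of% (hqι c.1), chartHom_toSpec, ← Spec.map_comp, ← CommRingCat.ofHom_comp]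
      exact congrArg (fun r => Spec.map (CommRingCat.ofHom r)) (evalPt G c.1 c.2).comp_algebraMap⟩
  have hin : ∀ (c : Σ j : Fin (n + 1), NormZero G j) (l : Fin (n + 1)),
      (Φ c).1 s₀ ∈ (LefPen.hypIdeal G).subschemeι ⁻¹ᵁ LefPen.chart n k l ↔ c.2.1 l ≠ 0 := by
    intro c l
    show ((Φ c).1 ≫ (LefPen.hypIdeal G).subschemeι) s₀ ∈ LefPen.chart n k l ↔ _
    show ((Spec.map _ ≫ q c.1) ≫ _) s₀ ∈ _ ↔ _
    rw [Category.assoc, hqι, preimage_chart]
    show evalPt G c.1 c.2 _ ≠ 0 ↔ _
    rw [evalPt_mk]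
    refine Fin.succAboveCases c.1 ?_ (fun i => ?_) l
    · simp [affCoord, c.2.2.1]
    · simp [affCoord, Fin.removeNth_apply]
  refine (Nat.card_congr (Equiv.ofBijective Φ ⟨fun c c' h => ?_, fun g => ?_⟩)).symm
  · have hj : c.1 = c'.1 := by
      rcases lt_trichotomy c.1 c'.1 with hlt | heq | hgt
      · exact absurd ((hin c' c.1).1 (h ▸ (hin c c.1).2 (by simp [c.2.2.1]))) (by simp [c'.2.2.2.1 _ hlt])
      · exact heq
      · exact absurd ((hin c c'.1).1 (h ▸ (hin c' c'.1).2 (by simp [c'.2.2.1]))) (by simp [c.2.2.2.1 _ hgt])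
    obtain ⟨j, c⟩ := c
    obtain ⟨j', c'⟩ := c'
    obtain rfl : j = j' := hj
    haveI := hq j
    have h1 : Spec.map (CommRingCat.ofHom (evalPt G j c).toRingHom) ≫ q j =
      Spec.map (CommRingCat.ofHom (evalPt G j c').toRingHom) ≫ q j := congrArg Subtype.val h
    have h2 : (evalPt G j c).toRingHom = (evalPt G j c').toRingHom :=
      congrArg CommRingCat.Hom.hom (Spec.map_injective ((cancel_mono (q j)).1 h1))
    refine congrArg (Sigma.mk j) (Subtype.ext (funext fun l => ?_))
    refine Fin.succAboveCases j (by rw [c.2.1, c'.2.1]) (fun i => ?_) l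
    have := congr($h2 (Ideal.Quotient.mk _ (MvPolynomial.X i)))
    simp only [AlgHom.toRingHom_eq_coe, RingHom.coe_coe, evalPt_mk, MvPolynomial.aeval_X, Fin.removeNth_apply] at this
    exact this
  · let p : CohB1.ProjSpace n k := (g.1 ≫ (LefPen.hypIdeal G).subschemeι) s₀
    let S := Finset.univ.filter fun l : Fin (n + 1) => p ∈ LefPen.chart n k l
    have hS : S.Nonempty := (CohTwo.CI.exists_chart p).imp fun l hl => by simp [S, hl]
    let j := S.min' hS
    have hjS : p ∈ LefPen.chart n k j := (Finset.mem_filter.1 (S.min'_mem hS)).2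
    haveI := hq j
    have hr : Set.range g.1 ⊆ Set.range (q j) := by
      rintro _ ⟨s, rfl⟩
      rw [Subsingleton.elim s s₀]
      have : g.1 s₀ ∈ (q j).opensRange := by rw [hqr j]; exact hjS
      exact this
    obtain ⟨φ, hφ⟩ := Spec.map_surjective (IsOpenImmersion.lift (q j) g.1 hr)
    have hg : Spec.map φ ≫ q j = g.1 := by rw [hφ, IsOpenImmersion.lift_fac]
    have hφk : φ.hom.comp (algebraMap k (chartRing G j)) = algebraMap k k := by
      have h := g.2
      rw [← hg, Category.assoc, reassoc_of% (hqι j), chartHom_toSpec, ← Spec.map_comp] at h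
      exact congrArg CommRingCat.Hom.hom (Spec.map_injective h)
    let ψ : chartRing G j →ₐ[k] k := { φ.hom with commutes' := fun a => congr($hφk a) }
    let v : Fin n → k := fun i => ψ (Ideal.Quotient.mk _ (MvPolynomial.X i))
    have hψ : ∀ a, ψ (Ideal.Quotient.mk _ a) = MvPolynomial.aeval v a := by
      intro a
      have : ψ.comp (Ideal.Quotient.mkₐ k _) = MvPolynomial.aeval v := MvPolynomial.algHom_ext fun i => by simp [v]
      exact congr($this a)
    let c : Fin (n + 1) → k := Fin.insertNth j (1 : k) v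
    have hc : ∀ l, c l = ψ (Ideal.Quotient.mk _ (affCoord j l)) := by
      refine Fin.succAboveCases j ?_ fun i => ?_ <;> simp [c, v, affCoord]
    have hc0 : MvPolynomial.eval c G.1 = 0 := by
      rw [← MvPolynomial.aeval_eq_eval, ← aeval_affEq, ← hψ, Ideal.Quotient.eq_zero_iff_mem.2 (Ideal.mem_span_singleton_self _),
        map_zero]
    have hlow : ∀ l < j, c l = 0 := by
      intro l hl
      rw [hc]
      by_contra h0
      refine absurd (S.min'_le l (Finset.mem_filter.2 ⟨Finset.mem_univ _, ?_⟩)) (not_le.2 hl)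
      show (g.1 ≫ _) s₀ ∈ _
      rw [← hg, Category.assoc, hqι]
      exact (preimage_chart G j l φ.hom s₀).2 h0
    refine ⟨⟨j, c, by simp [c], hlow, hc0⟩, Subtype.ext ?_⟩
    show Spec.map _ ≫ q j = g.1
    rw [← hg]
    congr 2
    refine CommRingCat.hom_ext (RingHom.ext fun a => ?_)
    obtain ⟨a, rfl⟩ := Ideal.Quotient.mk_surjective a
    show MvPolynomial.aeval (j.removeNth c) a = ψ (Ideal.Quotient.mk _ a)
    rw [hψ]
    simp [c]

/-- Non-zero zeros are scalar multiples of the normalised ones. -/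
theorem natCard_zeros_eq [Finite k] (hd : d ≠ 0) :
    Nat.card {c : Fin (n + 1) → k // MvPolynomial.eval c G.1 = 0} =
      (Nat.card k - 1) * Nat.card (Σ j : Fin (n + 1), NormZero G j) + 1 := by
  classical
  have : Fintype k := Fintype.ofFinite k
  have hhom : ∀ (a : k) (c : Fin (n + 1) → k), MvPolynomial.eval (a • c) G.1 = a ^ d * MvPolynomial.eval c G.1 := by
    intro a c
    have hG : G.1.IsHomogeneous d := G.2
    simp only [MvPolynomial.eval_eq', Finset.mul_sum]
    refine Finset.sum_congr rfl fun x hx => ?_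
    have hdeg : ∑ i, x i = d := by
      rw [← Finsupp.degree_eq_sum, Finsupp.degree_eq_weight_one]
      exact hG (MvPolynomial.mem_support_iff.mp hx)
    simp only [Pi.smul_apply, smul_eq_mul, mul_pow, Finset.prod_mul_distrib, Finset.prod_pow_eq_pow_sum, hdeg]
    ring
  have h0 : MvPolynomial.eval (0 : Fin (n + 1) → k) G.1 = 0 := by
    have := hhom 0 0
    rwa [zero_smul, zero_pow hd, zero_mul] at this
  let Ψ : Option (kˣ × Σ j : Fin (n + 1), NormZero G j) → {c : Fin (n + 1) → k // MvPolynomial.eval c G.1 = 0} :=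
    fun o => o.elim ⟨0, h0⟩ fun p => ⟨(p.1 : k) • p.2.2.1, by rw [hhom, p.2.2.2.2.2, mul_zero]⟩
  have hne : ∀ p : kˣ × Σ j : Fin (n + 1), NormZero G j, (p.1 : k) • p.2.2.1 ≠ 0 := fun p h => by
    simpa [p.2.2.2.1] using congrFun h p.2.1
  have hΨ : Function.Bijective Ψ := by
    refine ⟨?_, ?_⟩
    · rintro (_ | ⟨a, j, c⟩) (_ | ⟨a', j', c'⟩) h
      · rfl
      · exact absurd (congrArg Subtype.val h).symm (hne (a', ⟨j', c'⟩))
      · exact absurd (congrArg Subtype.val h) (hne (a, ⟨j, c⟩))
      · have h' : (a : k) • c.1 = (a' : k) • c'.1 := congrArg Subtype.val h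
        have hj : j = j' := by
          rcases lt_trichotomy j j' with hlt | heq | hgt
          · have h1 := congrFun h' j
            simp [c.2.1, c'.2.2.1 _ hlt] at h1
          · exact heq
          · have h1 := congrFun h' j'
            simp [c'.2.1, c.2.2.1 _ hgt] at h1
            exact absurd h1.symm a'.ne_zero
        subst hj
        obtain rfl : a = a' := Units.ext (by simpa [c.2.1, c'.2.1] using congrFun h' j)
        obtain rfl : c = c' := Subtype.ext (funext fun l => by
          simpa using congrFun h' l)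
        rfl
    · rintro ⟨c, hc⟩
      rcases eq_or_ne c 0 with rfl | hc0
      · exact ⟨none, rfl⟩
      · let S := Finset.univ.filter fun l : Fin (n + 1) => c l ≠ 0
        have hS : S.Nonempty := (Function.ne_iff.1 hc0).imp fun l hl => by simpa [S] using hl
        let j := S.min' hS
        have hj : c j ≠ 0 := (Finset.mem_filter.1 (S.min'_mem hS)).2
        refine ⟨some (Units.mk0 _ hj, ⟨j, (c j)⁻¹ • c, ?_, fun l hl => ?_, ?_⟩), Subtype.ext ?_⟩
        · simp [hj]
        · by_contra h0'
          exact absurd (S.min'_le l (Finset.mem_filter.2 ⟨Finset.mem_univ _, fun h1 => h0' (by simp [h1])⟩)) (not_le.2 hl)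
        · rw [hhom, hc, mul_zero]
        · show c j • (c j)⁻¹ • c = c
          rw [smul_smul, mul_inv_cancel₀ hj, one_smul]
  have : Finite (Σ j : Fin (n + 1), NormZero G j) := by
    have : ∀ j, Finite (NormZero G j) := fun j => Subtype.finite
    infer_instance
  rw [← Nat.card_congr (Equiv.ofBijective Ψ hΨ), Finite.card_option, Nat.card_prod, Nat.card_units]

end Groth.Quadric
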